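import Cfsg.Prelude.Def_SolvableStructure
import Cfsg.Agent.Lib.Solvable.Hall
import Cfsg.Agent.Lib.Solvable.Core
import Cfsg.Agent.Lib.Solvable.CoprimeAction
import Cfsg.Agent.Lib.Factor.Basic

/-!
Hall complement systems and system normalizers of finite solvable groups.
-/

set_option autoImplicit false

open Subgroup
open scoped Pointwise commutatorElement

namespace CfsgLib.HallSystem

universe u

variable {G : Type u} [Group G] [Finite G]

theorem exists_mul_of_coprime_index {A B : Subgroup G} (h : A.index.Coprime B.index) (g : G) :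
    ∃ a ∈ A, ∃ b ∈ B, g = a * b := by
  refine CfsgLib.Factor.exists_mul_of_relIndex_le (R := ⊤) le_top le_top ?_ g (mem_top g)
  rw [relIndex_top_right]
  have h1 : (A ⊓ B).index = A.index * B.index := le_antisymm index_inf_le
    (Nat.le_of_dvd (Nat.pos_of_ne_zero index_ne_zero_of_finite)
      (h.mul_dvd_of_dvd_of_dvd (index_dvd_of_le inf_le_left) (index_dvd_of_le inf_le_right)))
  have h2 : (A ⊓ B).index = B.relIndex A * A.index := by
    rw [← inf_relIndex_left A B, relIndex_mul_index inf_le_left]
  exact (Nat.eq_of_mul_eq_mul_right (Nat.pos_of_ne_zero index_ne_zero_of_finite)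
    (h2.symm.trans (h1.trans (mul_comm _ _)))).ge

/-- Cosets of subgroups of pairwise coprime prime-power index meet. -/
theorem exists_coset_inter (M : Nat.Primes → Subgroup G) (a : Nat.Primes → G)
    (hM : ∀ p : Nat.Primes, ∃ k : ℕ, (M p).index = (p : ℕ) ^ k)
    (hbig : ∀ p : Nat.Primes, ¬ (p : ℕ) ∣ Nat.card G → M p = ⊤) :
    ∃ g : G, ∀ p : Nat.Primes, (a p)⁻¹ * g ∈ M p := by
  classical
  have key : ∀ s : Finset Nat.Primes, ∃ (I : Subgroup G) (g : G),
      (∀ p ∈ s, I ≤ M p ∧ (a p)⁻¹ * g ∈ M p) ∧
      ∀ q : Nat.Primes, q ∉ s → I.index.Coprime q := by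
    intro s
    induction s using Finset.induction_on with
    | empty =>
      refine ⟨⊤, 1, fun p hp => by simp at hp, fun q _ => ?_⟩
      rw [index_top]
      exact Nat.coprime_one_left _
    | insert p s hp ih =>
      obtain ⟨I, g, hg, hI⟩ := ih
      obtain ⟨k, hk⟩ := hM p
      have hcop : I.index.Coprime (M p).index := hk ▸ (hI p hp).pow_right k
      obtain ⟨b, hb, m, hm, he⟩ := exists_mul_of_coprime_index hcop (g⁻¹ * a p)
      refine ⟨I ⊓ M p, g * b, fun q hq => ?_, fun q hq => ?_⟩
      · rcases Finset.mem_insert.mp hq with rfl | hq'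
        · refine ⟨inf_le_right, ?_⟩
          have h1 : (a q)⁻¹ * (g * b) = m⁻¹ := by
            have h2 : a q = g * (b * m) := by rw [← he, mul_inv_cancel_left]
            rw [h2]; group
          rw [h1]
          exact inv_mem hm
        · obtain ⟨h1, h2⟩ := hg q hq'
          refine ⟨inf_le_left.trans h1, ?_⟩
          rw [← mul_assoc]
          exact mul_mem h2 (h1 hb)
      · rw [Finset.mem_insert, not_or] at hq
        have h2 : (I ⊓ M p).index = I.index * (M p).index := le_antisymm index_inf_le
          (Nat.le_of_dvd (Nat.pos_of_ne_zero index_ne_zero_of_finite)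
            (hcop.mul_dvd_of_dvd_of_dvd (index_dvd_of_le inf_le_left)
              (index_dvd_of_le inf_le_right)))
        rw [h2, hk]
        exact Nat.Coprime.mul_left (hI q hq.2) (Nat.Coprime.pow_left k
          ((Nat.coprime_primes p.2 q.2).mpr fun h => hq.1 (Subtype.ext h).symm))
  obtain ⟨I, g, hg, -⟩ := key ((Nat.card G).primeFactors.subtype Nat.Prime)
  refine ⟨g, fun p => ?_⟩
  by_cases hp : (p : ℕ) ∣ Nat.card G
  · exact (hg p (Finset.mem_subtype.mpr (Nat.mem_primeFactors.mpr ⟨p.2, hp, Nat.card_pos.ne'⟩))).2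
  · rw [hbig p hp]; exact mem_top _

variable {K : Nat.Primes → Subgroup G}

theorem card_complement (hK : Cfsg.IsComplementSystem K) (p : Nat.Primes) :
    Nat.card (K p) = Nat.card G / (p : ℕ) ^ (Nat.card G).factorization p := by
  have h := (K p).card_mul_index
  rw [hK p] at h
  exact (Nat.div_eq_of_eq_mul_left (pow_pos p.2.pos _) h.symm).symm

theorem coprime_card (hK : Cfsg.IsComplementSystem K) (p : Nat.Primes) :
    (Nat.card (K p)).Coprime p := by
  rw [card_complement hK p]
  exact (Nat.coprime_ordCompl p.2 Nat.card_pos.ne').symm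

theorem eq_top_of_not_dvd (hK : Cfsg.IsComplementSystem K) (p : Nat.Primes)
    (hp : ¬ (p : ℕ) ∣ Nat.card G) : K p = ⊤ := by
  rw [← index_eq_one, hK p, Nat.factorization_eq_zero_of_not_dvd hp, pow_zero]

theorem le_complement_of_coprime (hK : Cfsg.IsComplementSystem K) (p : Nat.Primes)
    {R : Subgroup G} (hn : R ≤ normalizer (K p : Set G)) (hR : (Nat.card R).Coprime p) :
    R ≤ K p := by
  rw [← relIndex_eq_one, ← CfsgLib.Solvable.relIndex_sup_of_le_normalizer hn]
  refine Nat.eq_one_of_dvd_coprimes (hR.pow_right ((Nat.card G).factorization p)) ?_ ?_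
  · rw [CfsgLib.Solvable.relIndex_sup_of_le_normalizer hn]
    exact index_dvd_card _
  · rw [← hK p]
    exact relIndex_dvd_index_of_normal_like (K p) R
where
  relIndex_dvd_index_of_normal_like (A R : Subgroup G) : A.relIndex (A ⊔ R) ∣ A.index :=
    ⟨(A ⊔ R).index, (relIndex_mul_index le_sup_left).symm⟩

theorem systemNormalizer_le (K : Nat.Primes → Subgroup G) (p : Nat.Primes) :
    Cfsg.systemNormalizer K ≤ normalizer (K p : Set G) :=
  iInf_le (fun p => normalizer (K p : Set G)) p

/-- The system normalizer is nilpotent. -/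
theorem systemNormalizer_nilpotent (hK : Cfsg.IsComplementSystem K) :
    Group.IsNilpotent (Cfsg.systemNormalizer K) := by
  set D := Cfsg.systemNormalizer K
  have q := (Group.isNilpotent_of_finite_tfae (G := D)).out 0 3
  rw [q]
  intro p hp P
  let p' : Nat.Primes := ⟨p, hp.1⟩
  set W : Subgroup G := ⨅ (r : Nat.Primes) (_ : r ≠ p'), K r
  have hDW : D ≤ normalizer (W : Set G) := fun d hd => by
    rw [mem_normalizer_iff]
    intro x
    simp only [W, mem_iInf]
    refine forall_congr' fun r => forall_congr' fun _ => ?_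
    exact mem_normalizer_iff.mp (systemNormalizer_le K r hd) x
  have hsub : ∀ R : Subgroup G, R ≤ D → IsPGroup p R → R ≤ W := fun R hR hRp =>
    le_iInf₂ fun r hr => le_complement_of_coprime hK r (hR.trans (systemNormalizer_le K r)) (by
      obtain ⟨i, hi⟩ := IsPGroup.iff_card.mp hRp
      rw [hi]
      exact Nat.Coprime.pow_left i
        ((Nat.coprime_primes hp.1 r.2).mpr fun h => hr (Subtype.ext h).symm))
  have hW : IsPGroup p W := by
    refine IsPGroup.iff_card.mpr ⟨_, Nat.eq_prime_pow_of_unique_prime_dvd (p := p) (n := Nat.card W)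
      Nat.card_pos.ne' fun {r} hr hrd => ?_⟩
    by_contra hne
    have h1 : (W : Subgroup G) ≤ K ⟨r, hr⟩ :=
      iInf₂_le (⟨r, hr⟩ : Nat.Primes) fun h => hne (congrArg Subtype.val h)
    exact hr.coprime_iff_not_dvd.mp (coprime_card hK ⟨r, hr⟩).symm (hrd.trans (card_dvd_of_le h1))
  have hP : (P : Subgroup D) = W.subgroupOf D := by
    refine le_antisymm (fun x hx => ?_) ?_
    · exact mem_subgroupOf.mpr (hsub _ (map_subtype_le _) (P.2.map D.subtype) ⟨x, hx, rfl⟩)
    · have : (W.subgroupOf D).Normal := normal_subgroupOf_of_le_normalizer hDW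
      exact IsPGroup.le_sylow_of_normal (N := W.subgroupOf D)
        (hW.comap_of_injective D.subtype D.subtype_injective) P
  rw [hP]
  exact normal_subgroupOf_of_le_normalizer hDW

theorem isComplementSystem_map (hK : Cfsg.IsComplementSystem K) (N : Subgroup G) [N.Normal] :
    Cfsg.IsComplementSystem (fun p => (K p).map (QuotientGroup.mk' N)) := by
  intro p
  have hdvd : ((K p).map (QuotientGroup.mk' N)).index ∣ (p : ℕ) ^ (Nat.card G).factorization p :=
    hK p ▸ index_map_dvd _ (QuotientGroup.mk'_surjective N)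
  obtain ⟨i, -, hi⟩ := (Nat.dvd_prime_pow p.2).mp hdvd
  have hcop : (Nat.card ((K p).map (QuotientGroup.mk' N))).Coprime p :=
    (coprime_card hK p).coprime_dvd_left (card_map_dvd _ _)
  have hc := congrArg (fun n => Nat.factorization n (p : ℕ))
    ((K p).map (QuotientGroup.mk' N)).card_mul_index
  rw [hi, Nat.factorization_mul Nat.card_pos.ne' (pow_pos p.2.pos i).ne', p.2.factorization_pow]
    at hc
  simp only [Finsupp.add_apply, Finsupp.single_eq_same,
    Nat.factorization_eq_zero_of_not_dvd (p.2.coprime_iff_not_dvd.mp hcop.symm), zero_add] at hc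
  rw [hi, hc]

/-- For normal `N` the index of `K` in `K N` is that of `K ∩ N` in `N`. -/
theorem relIndex_normal_eq (A N : Subgroup G) [N.Normal] : A.relIndex N = A.relIndex (N ⊔ A) := by
  have h1 : A.relIndex (N ⊔ A) * Nat.card A = Nat.card (N ⊔ A : Subgroup G) := by
    rw [mul_comm, ← Nat.card_congr (subgroupOfEquivOfLe (le_sup_right : A ≤ N ⊔ A)).toEquiv]
    exact card_mul_index _
  have h2 : N.relIndex A * Nat.card N = Nat.card (N ⊔ A : Subgroup G) := by
    rw [← CfsgLib.Solvable.relIndex_sup_of_le_normalizer (le_top.trans (normalizer_eq_top N).ge),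
      mul_comm, ← Nat.card_congr (subgroupOfEquivOfLe (le_sup_left : N ≤ N ⊔ A)).toEquiv]
    exact card_mul_index _
  have h3 := CfsgLib.Solvable.card_inf_mul_relIndex N A
  have h4 := CfsgLib.Solvable.card_inf_mul_relIndex A N
  rw [inf_comm] at h3
  refine Nat.eq_of_mul_eq_mul_right (Nat.card_pos (α := A)) ?_
  rw [h1, ← h2, ← h3, ← h4]
  ring

variable [Group.IsSolvable G]

/-- Two complements for the same prime inside a subgroup are conjugate in it. -/
theorem exists_conj_mem {X A B : Subgroup G} (hA : A ≤ X) (hB : B ≤ X)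
    (hcard : Nat.card A = Nat.card B) (hcop : (Nat.card A).Coprime (A.relIndex X)) :
    ∃ x ∈ X, MulAut.conj x • A = B := by
  have hcA : Nat.card (A.subgroupOf X) = Nat.card A := Nat.card_congr (subgroupOfEquivOfLe hA).toEquiv
  have hcB : Nat.card (B.subgroupOf X) = Nat.card A :=
    (Nat.card_congr (subgroupOfEquivOfLe hB).toEquiv).trans hcard.symm
  have hG : Nat.card X = Nat.card A * A.relIndex X := by
    rw [← hcA, relIndex, card_mul_index]
  obtain ⟨x, hx⟩ := CfsgLib.Solvable.isPiHall_conj
    (CfsgLib.Solvable.isPiHall_of_card hG hcop hcA) (CfsgLib.Solvable.isPiHall_of_card hG hcop hcB)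
  refine ⟨x, x.2, ?_⟩
  have h := congrArg (Subgroup.map X.subtype) hx
  rw [CfsgLib.Solvable.map_conj_smul, map_subgroupOf_eq_of_le hA, map_subgroupOf_eq_of_le hB] at h
  exact h

/-- Complement systems are conjugate. -/
theorem exists_conj_system {L : Nat.Primes → Subgroup G} (hK : Cfsg.IsComplementSystem K)
    (hL : Cfsg.IsComplementSystem L) : ∃ g : G, ∀ p : Nat.Primes, MulAut.conj g • K p = L p := by
  have hex : ∀ p : Nat.Primes, ∃ a : G, MulAut.conj a • K p = L p := fun p => by
    obtain ⟨a, -, ha⟩ := exists_conj_mem (X := ⊤) (A := K p) (B := L p) le_top le_top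
      (by rw [card_complement hK, card_complement hL])
      (by rw [relIndex_top_right, hK p]; exact (coprime_card hK p).pow_right _)
    exact ⟨a, ha⟩
  choose a ha using hex
  obtain ⟨g, hg⟩ := exists_coset_inter (fun p => normalizer (K p : Set G)) a
    (fun p => by
      obtain ⟨k, -, hk⟩ := (Nat.dvd_prime_pow p.2).mp (hK p ▸ index_dvd_of_le (le_normalizer (H := K p)))
      exact ⟨k, hk⟩)
    (fun p hp => by
      simp only [eq_top_of_not_dvd hK p hp]
      exact normalizer_eq_top ⊤)
  refine ⟨g, fun p => ?_⟩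
  rw [show g = a p * ((a p)⁻¹ * g) by group, map_mul, mul_smul,
    CfsgLib.Solvable.conj_smul_eq_self_iff.mpr (hg p), ha p]

/-- System normalizers are preserved by quotients. -/
theorem systemNormalizer_map (hK : Cfsg.IsComplementSystem K) (N : Subgroup G) [N.Normal] :
    Cfsg.systemNormalizer (fun p => (K p).map (QuotientGroup.mk' N)) =
      (Cfsg.systemNormalizer K).map (QuotientGroup.mk' N) := by
  refine le_antisymm (fun x hx => ?_) (le_iInf fun p =>
    (map_mono (systemNormalizer_le K p)).trans (le_normalizer_map _))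
  obtain ⟨g, rfl⟩ := QuotientGroup.mk'_surjective N x
  have hex : ∀ p : Nat.Primes, ∃ n : N, MulAut.conj (n : G) • K p = MulAut.conj g • K p := by
    intro p
    have hle : MulAut.conj g • K p ≤ N ⊔ K p := by
      have h1 : (MulAut.conj g • K p).map (QuotientGroup.mk' N) = (K p).map (QuotientGroup.mk' N) := by
        rw [CfsgLib.Solvable.map_conj_smul, CfsgLib.Solvable.conj_smul_eq_self_iff]
        exact systemNormalizer_le _ p hx
      have h2 := le_comap_map (QuotientGroup.mk' N) (MulAut.conj g • K p)
      rwa [h1, comap_map_eq, QuotientGroup.ker_mk', sup_comm] at h2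
    obtain ⟨y, hy, hyK⟩ := exists_conj_mem (X := N ⊔ K p) le_sup_right hle
      (CfsgLib.Solvable.card_conj_smul g (K p)).symm
      (((coprime_card hK p).pow_right ((Nat.card G).factorization p)).coprime_dvd_right
        ((Dvd.intro _ (relIndex_mul_index (le_sup_right : K p ≤ N ⊔ K p))).trans (hK p).dvd))
    obtain ⟨n, hn, k, hk, rfl⟩ := mem_sup_of_normal_left.mp hy
    refine ⟨⟨n, hn⟩, ?_⟩
    rw [← hyK, map_mul, mul_smul, CfsgLib.Factor.conj_smul_of_mem hk]
  choose n hn using hex
  obtain ⟨m, hm⟩ := exists_coset_inter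
    (fun p => (normalizer (K p : Set G)).subgroupOf N) n
    (fun p => by
      have h1 : (normalizer (K p : Set G)).relIndex N ∣ (K p).relIndex N :=
        relIndex_dvd_of_le_left N le_normalizer
      have h2 : (K p).relIndex N ∣ (p : ℕ) ^ (Nat.card G).factorization p := by
        rw [← hK p, relIndex_normal_eq (K p) N]
        exact ⟨(N ⊔ K p).index, (relIndex_mul_index le_sup_right).symm⟩
      obtain ⟨k, -, hk⟩ := (Nat.dvd_prime_pow p.2).mp (h1.trans h2)
      exact ⟨k, hk⟩)
    (fun p hp => by
      have h1 : (normalizer (K p : Set G)).relIndex N ∣ Nat.card N := index_dvd_card _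
      have h2 : (normalizer (K p : Set G)).relIndex N ∣ (K p).relIndex N :=
        relIndex_dvd_of_le_left N le_normalizer
      have h3 : (K p).relIndex N ∣ (p : ℕ) ^ (Nat.card G).factorization p := by
        rw [← hK p, relIndex_normal_eq (K p) N]
        exact ⟨(N ⊔ K p).index, (relIndex_mul_index le_sup_right).symm⟩
      rw [← index_eq_one]
      exact Nat.eq_one_of_dvd_coprimes ((p.2.coprime_iff_not_dvd.mpr hp).symm.pow_right _) h1
        (h2.trans h3))
  refine ⟨(m : G)⁻¹ * g, ?_, ?_⟩
  · refine mem_iInf.mpr fun p => CfsgLib.Solvable.conj_smul_eq_self_iff.mp ?_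
    rw [map_mul, mul_smul, ← hn p, ← mul_smul, ← map_mul, CfsgLib.Solvable.conj_smul_eq_self_iff]
    have := inv_mem (mem_subgroupOf.mp (hm p))
    simpa [mul_inv_rev] using this
  · rw [map_mul, map_inv, show QuotientGroup.mk' N (m : G) = 1 from
      (QuotientGroup.eq_one_iff _).mpr m.2, inv_one, one_mul]

/-- Cover and avoidance for a minimal normal subgroup. -/
theorem systemNormalizer_inf_eq_bot (hK : Cfsg.IsComplementSystem K) (N : Subgroup G) [N.Normal]
    (hN : N ≠ ⊥) (hmin : ∀ M : Subgroup G, M.Normal → M ≤ N → M = ⊥ ∨ M = N)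
    (hnc : ¬ N ≤ center G) : N ⊓ Cfsg.systemNormalizer K = ⊥ := by
  obtain ⟨hab, p, hp, hexp⟩ := CfsgLib.Solvable.minimal_normal_elementary_abelian N hN hmin
  have := Fact.mk hp
  have hNp : IsPGroup p N := fun x => ⟨1, Subtype.ext (by simpa using hexp x x.2)⟩
  let p' : Nat.Primes := ⟨p, hp⟩
  have hNK : N ⊓ K p' = ⊥ := by
    obtain ⟨i, hi⟩ := IsPGroup.iff_card.mp hNp
    exact inf_eq_bot_of_coprime (hi ▸ (coprime_card hK p').symm.pow_left i)
  set C := centralizer (N : Set G) with hC
  have hCtop : C ≠ ⊤ := fun h => hnc (centralizer_eq_top_iff_subset.mp h)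
  have : Nontrivial (G ⧸ C) := QuotientGroup.nontrivial_iff.mpr hCtop
  obtain ⟨r, M', hr, hM'n, hM'r, hM'0⟩ :=
    CfsgLib.Solvable.exists_normal_pgroup_ne_bot (G := G ⧸ C)
  have := Fact.mk hr
  set M := M'.comap (QuotientGroup.mk' C)
  have hCM : C ≤ M := fun x hx => by
    rw [mem_comap, show QuotientGroup.mk' C x = 1 from (QuotientGroup.eq_one_iff x).mpr hx]
    exact one_mem M'
  have hMC : ¬ M ≤ C := fun h => hM'0 (by
    rw [← map_comap_eq_self_of_surjective (QuotientGroup.mk'_surjective C) M', eq_bot_iff]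
    exact (map_mono h).trans (QuotientGroup.map_mk'_self C).le)
  obtain ⟨j, hj⟩ := IsPGroup.iff_card.mp hM'r
  have hrel : C.relIndex M = r ^ j := by
    have h1 := C.relIndex_mul_index hCM
    have h2 := M'.card_mul_index
    rw [index_comap_of_surjective _ (QuotientGroup.mk'_surjective C), ← index_eq_card C] at *
    rw [← hj]
    exact Nat.eq_of_mul_eq_mul_right (Nat.pos_of_ne_zero index_ne_zero_of_finite) (h1.trans h2.symm)
  -- generic: overgroups of `C` of index prime to `r` contain `M`
  have hle : ∀ X : Subgroup G, C ≤ X → (X.relIndex M).Coprime r → M ≤ X := fun X hX hcop => by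
    rw [← relIndex_eq_one]
    exact Nat.eq_one_of_dvd_coprimes (hcop.pow_right j) dvd_rfl
      (hrel ▸ relIndex_dvd_of_le_left M hX)
  have hCn : (N ⊓ centralizer (M : Set G)) = ⊥ := by
    rcases hmin (N ⊓ centralizer (M : Set G)) inferInstance inf_le_left with h | h
    · exact h
    · exact absurd (le_centralizer_iff.mp (h.ge.trans inf_le_right)) hMC
  have hrp : r ≠ p := by
    rintro rfl
    have P : Sylow r M := default
    set P' := (P : Subgroup M).map M.subtype with hP'
    have hMle : M ≤ P' ⊔ C := by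
      refine hle _ le_sup_right ?_
      refine ((hr.coprime_iff_not_dvd.mpr P.not_dvd_index).symm).coprime_dvd_left ?_
      have h1 := relIndex_dvd_of_le_left M (le_sup_left : P' ≤ P' ⊔ C)
      rwa [relIndex, relIndex, hP', ← comap_subtype, ← comap_subtype,
        comap_map_eq_self_of_injective M.subtype_injective] at h1
    set W := N ⊔ P'
    have hW : IsPGroup r W := hNp.to_sup_of_normal_left (P.2.map M.subtype)
    have hn0 : N.subgroupOf W ≠ ⊥ := by
      rw [Ne, subgroupOf_eq_bot, disjoint_iff, inf_eq_left.mpr le_sup_left]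
      exact hN
    obtain ⟨z, hz, hz1⟩ := CfsgLib.Solvable.exists_ne_one_mem_inf_center_of_normal hW (N := N.subgroupOf W) hn0
    refine hz1 (Subtype.ext ((mem_bot).mp (hCn ▸ mem_inf.mpr ⟨mem_subgroupOf.mp hz.1, ?_⟩)))
    refine centralizer_le hMle ?_
    rw [mem_centralizer_iff]
    intro y hy
    have hy' : P' ⊔ C ≤ centralizer {(z : G)} := by
      refine sup_le (fun x hx => ?_) (fun x hx => ?_)
      · rw [mem_centralizer_singleton_iff]
        exact congrArg Subtype.val (mem_center_iff.mp hz.2 ⟨x, mem_sup_right hx⟩)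
      · rw [mem_centralizer_singleton_iff]
        exact (mem_centralizer_iff.mp hx _ (mem_subgroupOf.mp hz.1)).symm
    exact mem_centralizer_singleton_iff.mp (hy' hy)
  have hMK : M ≤ K p' ⊔ C := by
    refine hle _ le_sup_right ?_
    have hn : M.Normal := inferInstance
    have h1 : (K p' ⊔ C).relIndex M ∣ p ^ (Nat.card G).factorization p := by
      rw [relIndex_normal_eq]
      exact (Dvd.intro _ (relIndex_mul_index le_sup_right)).trans
        ((index_dvd_of_le le_sup_left).trans (hK p').dvd)
    exact (Nat.Coprime.pow_left _ ((Nat.coprime_primes hp hr).mpr hrp.symm)).coprime_dvd_left h1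
  rw [eq_bot_iff, ← hCn]
  refine le_inf inf_le_left fun x hx => ?_
  have hxK : ∀ k ∈ K p', k * x = x * k := fun k hk => by
    refine commutatorElement_eq_one_iff_mul_comm.mp (mem_bot.mp (hNK ▸ mem_inf.mpr ⟨?_, ?_⟩))
    · rw [commutatorElement_def]
      exact N.mul_mem (Normal.conj_mem inferInstance x hx.1 k) (N.inv_mem hx.1)
    · rw [commutatorElement_def, show k * x * k⁻¹ * x⁻¹ = k * (x * k⁻¹ * x⁻¹) by group]
      exact mul_mem hk ((mem_normalizer_iff.mp (systemNormalizer_le K p' hx.2) _).mp (inv_mem hk))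
  rw [mem_centralizer_iff]
  intro y hy
  have hall : K p' ⊔ C ≤ centralizer {x} := sup_le
    (fun k hk => mem_centralizer_singleton_iff.mpr (hxK k hk))
    (fun c hc => mem_centralizer_singleton_iff.mpr ((mem_centralizer_iff.mp hc x hx.1).symm))
  exact mem_centralizer_singleton_iff.mp (hall (hMK hy))

omit [Group.IsSolvable G] in
omit [Finite G] in
theorem center_le_systemNormalizer : center G ≤ Cfsg.systemNormalizer K :=
  le_iInf fun _ => center_le_normalizer _

/-- Cover and avoidance. -/
theorem cover_avoid (hK : Cfsg.IsComplementSystem K) (A B : Subgroup G) [A.Normal] [B.Normal]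
    (hAB : A < B) (hchief : ∀ N : Subgroup G, N.Normal → A ≤ N → N ≤ B → N = A ∨ N = B) :
    (⁅B, (⊤ : Subgroup G)⁆ ≤ A → B ≤ A ⊔ Cfsg.systemNormalizer K) ∧
      (¬ ⁅B, (⊤ : Subgroup G)⁆ ≤ A → B ⊓ Cfsg.systemNormalizer K ≤ A) := by
  set π := QuotientGroup.mk' A
  have hπ := QuotientGroup.mk'_surjective A
  have hKq := isComplementSystem_map hK A
  have hD := systemNormalizer_map hK A
  set B' := B.map π with hB'
  have hB'n : B'.Normal := ‹B.Normal›.map π hπ
  have hcomap : B'.comap π = B := comap_map_eq_self (by rw [QuotientGroup.ker_mk']; exact hAB.le)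
  have hcentral : ⁅B, (⊤ : Subgroup G)⁆ ≤ A ↔ B' ≤ center (G ⧸ A) := by
    rw [commutator_le, hB', map_le_iff_le_comap]
    constructor
    · intro h b hb
      rw [mem_comap, mem_center_iff]
      intro y
      obtain ⟨g, rfl⟩ := hπ y
      refine (commutatorElement_eq_one_iff_mul_comm.mp ?_).symm
      rw [← map_commutatorElement]
      exact (QuotientGroup.eq_one_iff _).mpr (h b hb g (mem_top g))
    · intro h b hb g _
      refine (QuotientGroup.eq_one_iff _).mp ?_
      show π ⁅b, g⁆ = 1
      rw [map_commutatorElement, commutatorElement_eq_one_iff_mul_comm]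
      exact (mem_center_iff.mp (h hb) (π g)).symm
  constructor
  · intro hc
    have h1 : B' ≤ (Cfsg.systemNormalizer K).map π :=
      hD ▸ (hcentral.mp hc).trans center_le_systemNormalizer
    have h2 := comap_mono (f := π) h1
    rwa [hcomap, comap_map_eq, QuotientGroup.ker_mk', sup_comm] at h2
  · intro hnc
    have hmin : ∀ M : Subgroup (G ⧸ A), M.Normal → M ≤ B' → M = ⊥ ∨ M = B' := by
      intro M hM hMB
      rcases hchief (M.comap π) (hM.comap π)
        (by
          intro a ha
          rw [mem_comap, show π a = 1 from (QuotientGroup.eq_one_iff a).mpr ha]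
          exact one_mem M) (hcomap ▸ comap_mono hMB) with h | h
      · left
        rw [← map_comap_eq_self_of_surjective hπ M, h, QuotientGroup.map_mk'_self]
      · right
        rw [← map_comap_eq_self_of_surjective hπ M, h]
    have hB'0 : B' ≠ ⊥ := fun h => hAB.not_ge (by
      rw [← hcomap, h, MonoidHom.comap_bot, QuotientGroup.ker_mk'])
    have h1 := systemNormalizer_inf_eq_bot hKq B' hB'0 hmin fun h => hnc (hcentral.mpr h)
    intro x hx
    refine (QuotientGroup.eq_one_iff _).mp (mem_bot.mp (h1 ▸ mem_inf.mpr ⟨?_, ?_⟩))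
    · exact mem_map_of_mem π hx.1
    · rw [hD]; exact mem_map_of_mem π hx.2

/-- The normal closure of a system normalizer is everything. -/
theorem normalClosure_systemNormalizer (hK : Cfsg.IsComplementSystem K) :
    normalClosure ((Cfsg.systemNormalizer K : Subgroup G) : Set G) = ⊤ := by
  by_contra h
  set N := normalClosure ((Cfsg.systemNormalizer K : Subgroup G) : Set G) with hN
  have : Nontrivial (G ⧸ N) := QuotientGroup.nontrivial_iff.mpr h
  obtain ⟨M', hM'n, hcomm, hidx⟩ := CfsgLib.Solvable.exists_normal_prime_index (G := G ⧸ N)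
  set M := M'.comap (QuotientGroup.mk' N)
  have hsurj := QuotientGroup.mk'_surjective N
  have hMi : M.index.Prime := by rwa [index_comap_of_surjective _ hsurj]
  have hMtop : M < ⊤ := lt_top_iff_ne_top.mpr fun h' => by
    rw [h', index_top] at hMi
    exact Nat.not_prime_one hMi
  have h1 := (cover_avoid hK M ⊤ hMtop fun X _ hMX _ => by
    rcases (Nat.dvd_prime hMi).mp (index_dvd_of_le hMX) with h' | h'
    · exact Or.inr (index_eq_one.mp h')
    · refine Or.inl (le_antisymm ?_ hMX)
      rw [← relIndex_eq_one]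
      have h'' := relIndex_mul_index hMX
      rw [h'] at h''
      exact Nat.eq_of_mul_eq_mul_right hMi.pos (h''.trans (one_mul _).symm)).1 ?_
  · refine hMtop.ne (top_le_iff.mp (h1.trans (sup_le le_rfl ?_)))
    intro x hx
    rw [mem_comap, show QuotientGroup.mk' N x = 1 from
      (QuotientGroup.eq_one_iff x).mpr (subset_normalClosure hx)]
    exact one_mem M'
  · rw [commutator_le]
    intro a _ b _
    rw [mem_comap, map_commutatorElement]
    exact hcomm (by rw [commutator_def]; exact commutator_mem_commutator (mem_top _) (mem_top _))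

end CfsgLib.HallSystem
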