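import Cfsg.Agent.Lib.HallSystem.Basic
import Cfsg.Agent.Lib.Solvable.Carter
import Cfsg.Agent.S0583
import Cfsg.Agent.Lib.Transfer.PGroup
import Mathlib.Tactic

/-!
System normalizers and Carter subgroups.
-/

set_option autoImplicit false
set_option linter.style.haveILetI false

open Subgroup
open scoped Pointwise commutatorElement

namespace CfsgLib.HallSystem

universe u

variable {G : Type u} [Group G] [Finite G]

/-- `K` reduces into `C`: the `r'`-elements of `C` lie in `K r`. -/
def Reduces (K : Nat.Primes → Subgroup G) (C : Subgroup G) : Prop :=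
  ∀ r : Nat.Primes, ∀ x ∈ C, (orderOf x).Coprime r → x ∈ K r

theorem mem_complement_of_coprime {K : Nat.Primes → Subgroup G} (hK : Cfsg.IsComplementSystem K)
    (r : Nat.Primes) {x : G} (hx : x ∈ normalizer (K r : Set G)) (hco : (orderOf x).Coprime r) :
    x ∈ K r :=
  le_complement_of_coprime hK r (zpowers_le.mpr hx) (by rwa [Nat.card_zpowers]) (mem_zpowers x)

/-- In a nilpotent group the members of a complement system are normal. -/
theorem normal_of_nilpotent [Group.IsNilpotent G] {K : Nat.Primes → Subgroup G}
    (hK : Cfsg.IsComplementSystem K) (r : Nat.Primes) : normalizer (K r : Set G) = ⊤ := by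
  refine CfsgLib.Solvable.eq_top_of_normalizer_eq_self (le_antisymm (fun g hg => ?_) le_normalizer)
  have key : ∀ u : G, u ∈ normalizer ((normalizer (K r : Set G) : Subgroup G) : Set G) →
      ∀ z ∈ K r, u * z * u⁻¹ ∈ K r := by
    intro u hu z hz
    refine mem_complement_of_coprime hK r ((mem_normalizer_iff.mp hu z).mp (le_normalizer hz)) ?_
    rw [← MulAut.conj_apply, MulEquiv.orderOf_eq]
    exact (coprime_card hK r).coprime_dvd_left (orderOf_dvd_natCard _ hz)
  rw [mem_normalizer_iff]
  refine fun z => ⟨key g hg z, fun h => ?_⟩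
  have := key g⁻¹ (inv_mem hg) _ h
  simpa [mul_assoc] using this

theorem systemNormalizer_eq_top [Group.IsNilpotent G] {K : Nat.Primes → Subgroup G}
    (hK : Cfsg.IsComplementSystem K) : Cfsg.systemNormalizer K = ⊤ := by
  simp [Cfsg.systemNormalizer, normal_of_nilpotent hK]

theorem isCarter_top [Group.IsNilpotent G] : Cfsg.IsCarterSubgroup (⊤ : Subgroup G) :=
  ⟨Group.isNilpotent_top.2 inferInstance, top_le_iff.mp le_normalizer⟩

/-- The image of a Carter subgroup is a Carter subgroup. -/
theorem isCarter_map [Group.IsSolvable G] {C : Subgroup G} (hC : Cfsg.IsCarterSubgroup C)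
    (N : Subgroup G) [N.Normal] : Cfsg.IsCarterSubgroup (C.map (QuotientGroup.mk' N)) := by
  set π := QuotientGroup.mk' N
  refine ⟨?_, le_antisymm (fun x hx => ?_) le_normalizer⟩
  · haveI := hC.1
    exact Group.nilpotent_of_surjective (π.subgroupMap C) (π.subgroupMap_surjective C)
  obtain ⟨g, rfl⟩ := QuotientGroup.mk'_surjective N x
  set R := (C.map π).comap π with hR
  have hCR : C ≤ R := le_comap_map π C
  have hgC : MulAut.conj g • C ≤ R := by
    intro y hy
    rw [CfsgLib.Solvable.mem_conj_smul] at hy
    rw [hR, mem_comap, show π y = π g * π (g⁻¹ * y * g) * (π g)⁻¹ by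
      rw [← map_inv, ← map_mul, ← map_mul]; congr 1; group]
    exact (mem_normalizer_iff.mp hx (π (g⁻¹ * y * g))).mp (mem_map_of_mem π hy)
  obtain ⟨h, hh, he⟩ := CfsgLib.Solvable.exists_conj_of_carterProperty
    (CfsgLib.Solvable.carterProperty R) hCR hgC hC (CfsgLib.Solvable.isCarter_conj hC g)
  have hgh : h⁻¹ * g ∈ normalizer (C : Set G) := by
    rw [← CfsgLib.Solvable.conj_smul_eq_self_iff, map_mul, mul_smul, ← he, map_inv, inv_smul_smul]
  rw [hC.2] at hgh
  have e : π g = π h * π (h⁻¹ * g) := by rw [← map_mul, mul_inv_cancel_left]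
  rw [e]
  exact mul_mem hh (mem_map_of_mem π hgh)

/-- A minimal normal subgroup with nilpotent quotient is central iff the group is nilpotent. -/
theorem nilpotent_of_central (N : Subgroup G) [N.Normal] [Group.IsNilpotent (G ⧸ N)]
    (hN : N ≤ center G) : Group.IsNilpotent G :=
  Subgroup.isNilpotent_of_ker_le_center (QuotientGroup.mk' N) (by rwa [QuotientGroup.ker_mk'])

/-- A system normalizer lies in a Carter subgroup into which the system reduces. -/
theorem exists_carter_aux : ∀ (n : ℕ) (G : Type u) [Group G] [Finite G] [Group.IsSolvable G],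
    Nat.card G ≤ n → ∀ K : Nat.Primes → Subgroup G, Cfsg.IsComplementSystem K →
      ∃ C : Subgroup G, Cfsg.IsCarterSubgroup C ∧ Cfsg.systemNormalizer K ≤ C ∧ Reduces K C := by
  intro n
  induction n with
  | zero => intro G _ _ _ hn; have := (Nat.card_pos : 0 < Nat.card G); omega
  | succ n ih =>
    intro G _ _ _ hn K hK
    by_cases hnil : Group.IsNilpotent G
    · exact ⟨⊤, isCarter_top, le_top, fun r x _ hx =>
        mem_complement_of_coprime hK r (by rw [normal_of_nilpotent hK r]; trivial) hx⟩
    haveI : Nontrivial G := by
      by_contra h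
      rw [not_nontrivial_iff_subsingleton] at h
      exact hnil inferInstance
    obtain ⟨N, hN, hNne, -, hmin⟩ :=
      CfsgLib.Solvable.exists_minimal_normal_le (⊤ : Subgroup G) top_ne_bot
    haveI := hN
    set π := QuotientGroup.mk' N
    have hπ : Function.Surjective π := QuotientGroup.mk'_surjective N
    have hlt : Nat.card (G ⧸ N) ≤ n := by
      have h1 : Nat.card (G ⧸ N) < Nat.card G := by
        rw [card_eq_card_quotient_mul_card_subgroup N]
        exact lt_mul_of_one_lt_right Nat.card_pos ((one_lt_card_iff_ne_bot N).mpr hNne)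
      omega
    obtain ⟨C', hC', hDC', hred'⟩ := ih (G ⧸ N) hlt _ (isComplementSystem_map hK N)
    rw [systemNormalizer_map hK N] at hDC'
    set R := C'.comap π with hR
    have hNR : N ≤ R := fun x hx => by
      rw [hR, mem_comap, show π x = 1 from (QuotientGroup.eq_one_iff x).mpr hx]
      exact one_mem _
    have hDR : Cfsg.systemNormalizer K ≤ R := map_le_iff_le_comap.mp hDC'
    by_cases hRtop : R = ⊤
    · -- the quotient is nilpotent
      have hC'top : C' = ⊤ := comap_injective hπ (hRtop.trans (comap_top π).symm)
      haveI : Group.IsNilpotent (G ⧸ N) :=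
        Group.isNilpotent_top.1 (hC'top ▸ hC'.1)
      have hnc : ¬ N ≤ center G := fun h => hnil (nilpotent_of_central N h)
      have hinf := systemNormalizer_inf_eq_bot hK N hNne hmin hnc
      have hcover : ∀ g : G, ∃ u ∈ N, ∃ d ∈ Cfsg.systemNormalizer K, g = u * d := by
        intro g
        have h1 := systemNormalizer_eq_top (isComplementSystem_map hK N)
        rw [systemNormalizer_map hK N] at h1
        obtain ⟨d, hd, he⟩ := mem_map.mp (h1.symm ▸ mem_top (π g) :
          π g ∈ (Cfsg.systemNormalizer K).map π)
        exact ⟨g * d⁻¹, (QuotientGroup.eq_one_iff _).mp (by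
          show π (g * d⁻¹) = 1
          rw [map_mul, map_inv, he, mul_inv_cancel]), d, hd, by group⟩
      refine ⟨Cfsg.systemNormalizer K, ⟨systemNormalizer_nilpotent hK, le_antisymm ?_ le_normalizer⟩,
        le_rfl, fun r x hx hco => mem_complement_of_coprime hK r (systemNormalizer_le K r hx) hco⟩
      intro g hg
      obtain ⟨u, hu, d, hd, rfl⟩ := hcover g
      have huD : u ∈ normalizer (Cfsg.systemNormalizer K : Set G) := by
        have := mul_mem hg (inv_mem (le_normalizer hd))
        simpa [mul_assoc] using this
      have hzero : ∀ y ∈ Cfsg.systemNormalizer K, y * u = u * y := by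
        intro y hy
        have h1 : u * y * u⁻¹ * y⁻¹ ∈ Cfsg.systemNormalizer K :=
          mul_mem ((mem_normalizer_iff.mp huD y).mp hy) (inv_mem hy)
        have h2 : u * y * u⁻¹ * y⁻¹ ∈ N := by
          have := mul_mem hu (hN.conj_mem _ (inv_mem hu) y)
          simpa [mul_assoc] using this
        have h3 : u * y * u⁻¹ * y⁻¹ = 1 := by
          rw [← Subgroup.mem_bot, ← hinf]
          first
            | exact mem_inf.mpr ⟨h2, h1⟩
            | exact mem_inf.mpr ⟨h1, h2⟩
        rw [mul_inv_eq_one, mul_inv_eq_iff_eq_mul] at h3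
        exact h3.symm
      obtain ⟨hNc, -⟩ := CfsgLib.Solvable.minimal_normal_elementary_abelian N hNne hmin
      have hucenter : u ∈ center G := by
        rw [mem_center_iff]
        intro g
        obtain ⟨v, hv, y, hy, rfl⟩ := hcover g
        rw [mul_assoc, hzero y hy, ← mul_assoc, ← mul_assoc, setLike_mul_comm hv hu]
      have hu1 : u = 1 := by
        rcases hmin (N ⊓ center G) inferInstance inf_le_left with h | h
        · have : u ∈ N ⊓ center G := mem_inf.mpr ⟨hu, hucenter⟩
          rwa [h, Subgroup.mem_bot] at this
        · exact absurd (inf_eq_left.mp h) hnc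
      rw [hu1, one_mul]
      exact hd
    · -- induction inside the preimage of a Carter subgroup of the quotient
      have hidx : ∀ r : Nat.Primes, ∃ i, (K r).relIndex R = (r : ℕ) ^ i := by
        intro r
        have hrpow : ∀ m : ℕ, m ≠ 0 → (∀ q : ℕ, q.Prime → q ∣ m → q = r) →
            ∃ i, m = (r : ℕ) ^ i := fun m hm h =>
          ⟨_, Nat.eq_prime_pow_of_unique_prime_dvd hm fun {q} hq hqd => h q hq hqd⟩
        refine hrpow _ (index_ne_zero_of_finite (H := (K r).subgroupOf R)) fun q hq hqd => ?_
        by_contra hqr
        haveI := Fact.mk hq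
        set X : Subgroup G := R ⊓ ((K r).map π).comap π with hX
        have hKX : (K r).relIndex X = (K r).relIndex N := by
          have hNX : N ≤ X := le_inf hNR fun x hx => by
            rw [mem_comap, show π x = 1 from (QuotientGroup.eq_one_iff x).mpr hx]
            exact one_mem _
          have hXsup : N ⊔ (K r ⊓ X) = X := by
            refine le_antisymm (sup_le hNX inf_le_right) fun x hx => ?_
            have h1 : x ∈ K r ⊔ N := by
              have := hx.2
              rwa [SetLike.mem_coe, comap_map_eq, QuotientGroup.ker_mk'] at this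
            rw [sup_comm] at h1
            obtain ⟨u, hu, k, hk, rfl⟩ := mem_sup_of_normal_left.mp h1
            refine mul_mem_sup hu ⟨hk, ?_⟩
            have := mul_mem (inv_mem (hNX hu)) hx
            simpa using this
          have h := relIndex_normal_eq (K r ⊓ X) N
          rw [hXsup] at h
          rw [← inf_relIndex_right (K r) X, ← h, ← inf_relIndex_right (K r ⊓ X) N,
            inf_assoc, inf_eq_right.mpr hNX, inf_relIndex_right]
        have hKN : (K r).relIndex N ∣ (r : ℕ) ^ (Nat.card G).factorization r := by
          rw [relIndex_normal_eq, ← hK r]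
          exact ⟨_, (relIndex_mul_index le_sup_right).symm⟩
        have hmul : (K r).relIndex R = (K r).relIndex X * X.relIndex R := by
          rw [← inf_relIndex_right (K r) R, ← inf_relIndex_right (K r) X,
            ← relIndex_mul_relIndex (K r ⊓ R) X R ?_ inf_le_left]
          · congr 2
            rw [hX]
            refine le_antisymm (le_inf inf_le_left (le_inf inf_le_right ?_)) (le_inf inf_le_left ?_)
            · exact inf_le_left.trans (le_comap_map π _)
            · exact inf_le_right.trans inf_le_left
          · exact le_inf inf_le_right (inf_le_left.trans (le_comap_map π _))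
        rw [hmul, hKX] at hqd
        rcases hq.dvd_mul.mp hqd with h | h
        · exact hqr ((Nat.prime_dvd_prime_iff_eq hq r.2).mp (hq.dvd_of_dvd_pow (h.trans hKN)))
        · rw [hX, inf_comm, inf_relIndex_right, hR, relIndex_comap,
            map_comap_eq_self_of_surjective hπ] at h
          obtain ⟨S⟩ : Nonempty (Sylow q C') := inferInstance
          have hle : (S : Subgroup C') ≤ ((K r).map π).subgroupOf C' := by
            intro y hy
            refine mem_subgroupOf.mpr (hred' r y y.2 ?_)
            obtain ⟨k, hk⟩ := (IsPGroup.iff_orderOf.mp S.isPGroup') ⟨y, hy⟩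
            rw [orderOf_mk] at hk
            rw [orderOf_coe, hk]
            exact ((Nat.coprime_primes hq r.2).mpr hqr).pow_left k
          exact S.not_dvd_index (h.trans (index_dvd_of_le hle))
      have hKR : Cfsg.IsComplementSystem fun r => (K r).subgroupOf R := by
        intro r
        obtain ⟨i, hi⟩ := hidx r
        show (K r).relIndex R = _
        rw [hi]
        congr 1
        have hcop : (Nat.card ((K r).subgroupOf R)).Coprime r := by
          refine (coprime_card hK r).coprime_dvd_left ?_
          rw [← card_subtype R]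
          exact card_dvd_of_le (map_comap_le _ _)
        have hc := congrArg (fun m => Nat.factorization m (r : ℕ)) ((K r).subgroupOf R).card_mul_index
        rw [show ((K r).subgroupOf R).index = (r : ℕ) ^ i from hi,
          Nat.factorization_mul Nat.card_pos.ne' (pow_pos r.2.pos i).ne', r.2.factorization_pow]
          at hc
        simp only [Finsupp.add_apply, Finsupp.single_eq_same,
          Nat.factorization_eq_zero_of_not_dvd (r.2.coprime_iff_not_dvd.mp hcop.symm), zero_add]
          at hc
        exact hc
      have hRn : Nat.card R ≤ n := by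
        have := CfsgLib.Solvable.card_lt_of_ne_top hRtop
        omega
      obtain ⟨C, hC, hDC, hred⟩ := ih R hRn _ hKR
      haveI := hC'.1
      refine ⟨C.map R.subtype, ⟨?_, le_antisymm ?_ le_normalizer⟩, ?_, ?_⟩
      · haveI := hC.1
        exact Group.nilpotent_of_mulEquiv (C.equivMapOfInjective _ R.subtype_injective)
      · intro g hg
        have hCtop : (C.map R.subtype).map π = C' := by
          have hcart := isCarter_map hC (N.subgroupOf R)
          let f : R →* C' := π.subgroupComap C'
          have hf : Function.Surjective f := by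
            rintro ⟨y, hy⟩
            obtain ⟨x, rfl⟩ := hπ y
            exact ⟨⟨x, hy⟩, rfl⟩
          have hker : f.ker = N.subgroupOf R := by
            ext x
            rw [MonoidHom.mem_ker, mem_subgroupOf]
            exact ⟨fun h => (QuotientGroup.eq_one_iff _).mp (congrArg Subtype.val h),
              fun h => Subtype.ext ((QuotientGroup.eq_one_iff _).mpr h)⟩
          have hsn : normalizer ((C.map f : Subgroup C') : Set C') = C.map f := by
            refine le_antisymm (fun y hy => ?_) le_normalizer
            obtain ⟨x, rfl⟩ := hf y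
            have hx : QuotientGroup.mk' (N.subgroupOf R) x ∈
                normalizer ((C.map (QuotientGroup.mk' (N.subgroupOf R)) : Subgroup _) : Set _) := by
              rw [mem_normalizer_iff]
              intro z
              obtain ⟨z, rfl⟩ := QuotientGroup.mk'_surjective (N.subgroupOf R) z
              have e : ∀ w : R, QuotientGroup.mk' (N.subgroupOf R) w ∈
                  C.map (QuotientGroup.mk' (N.subgroupOf R)) ↔ f w ∈ C.map f := fun w => by
                rw [← mem_comap, comap_map_eq, ← mem_comap (f := f), comap_map_eq, hker,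
                  QuotientGroup.ker_mk']
              rw [← map_mul, ← map_inv, ← map_mul, e, e, map_mul, map_mul, map_inv]
              exact mem_normalizer_iff.mp hy (f z)
            rw [hcart.2, ← mem_comap, comap_map_eq, QuotientGroup.ker_mk', ← hker, ← comap_map_eq,
              mem_comap] at hx
            exact hx
          have htop := CfsgLib.Solvable.eq_top_of_normalizer_eq_self hsn
          have h2 := congrArg (Subgroup.map C'.subtype) htop
          rw [map_map, ← MonoidHom.range_eq_map, range_subtype] at h2
          rw [map_map]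
          exact h2
        have hgR : g ∈ R := by
          rw [hR, mem_comap, ← hC'.2, ← hCtop]
          exact le_normalizer_map π (mem_map_of_mem π hg)
        have h3 : (⟨g, hgR⟩ : R) ∈ normalizer (C : Set R) := by
          rw [mem_normalizer_iff]
          intro z
          have := mem_normalizer_iff.mp hg (z : G)
          rwa [show (z : G) = R.subtype z from rfl, mem_map_iff_mem R.subtype_injective,
            show g * R.subtype z * g⁻¹ = R.subtype (⟨g, hgR⟩ * z * ⟨g, hgR⟩⁻¹) from rfl,
            mem_map_iff_mem R.subtype_injective] at this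
        rw [hC.2] at h3
        exact ⟨_, h3, rfl⟩
      · intro d hd
        refine ⟨⟨d, hDR hd⟩, hDC ?_, rfl⟩
        simp only [Cfsg.systemNormalizer, mem_iInf] at hd ⊢
        intro r
        rw [mem_normalizer_iff]
        intro z
        simp only [mem_subgroupOf]
        exact mem_normalizer_iff.mp (hd r) (z : G)
      · rintro r _ ⟨x, hx, rfl⟩ hco
        exact mem_subgroupOf.mp (hred r x hx (by rwa [coe_subtype, orderOf_coe] at hco))

/-- In a metanilpotent group a Carter subgroup containing a system normalizer equals it. -/
theorem eq_of_le_carter_aux : ∀ (n : ℕ) (G : Type u) [Group G] [Finite G] [Group.IsSolvable G],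
    Nat.card G ≤ n → ∀ (F : Subgroup G) [F.Normal], Group.IsNilpotent F →
      Group.IsNilpotent (G ⧸ F) → ∀ (K : Nat.Primes → Subgroup G), Cfsg.IsComplementSystem K →
      ∀ C : Subgroup G, Cfsg.IsCarterSubgroup C → Cfsg.systemNormalizer K ≤ C →
        C = Cfsg.systemNormalizer K := by
  intro n
  induction n with
  | zero => intro G _ _ _ hn; have := (Nat.card_pos : 0 < Nat.card G); omega
  | succ n ih =>
    intro G _ _ _ hn F _ hF hGF K hK C hC hDC
    by_cases hnil : Group.IsNilpotent G
    · rw [CfsgLib.Solvable.eq_top_of_normalizer_eq_self hC.2, systemNormalizer_eq_top hK]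
    haveI : Nontrivial G := by
      by_contra h
      rw [not_nontrivial_iff_subsingleton] at h
      exact hnil inferInstance
    obtain ⟨N, hN, hNne, -, hmin⟩ :=
      CfsgLib.Solvable.exists_minimal_normal_le (⊤ : Subgroup G) top_ne_bot
    haveI := hN
    set π := QuotientGroup.mk' N
    have hπ : Function.Surjective π := QuotientGroup.mk'_surjective N
    have hlt : Nat.card (G ⧸ N) ≤ n := by
      have h1 : Nat.card (G ⧸ N) < Nat.card G := by
        rw [card_eq_card_quotient_mul_card_subgroup N]
        exact lt_mul_of_one_lt_right Nat.card_pos ((one_lt_card_iff_ne_bot N).mpr hNne)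
      omega
    haveI : (F.map π).Normal := Normal.map inferInstance π hπ
    haveI := hF
    haveI := hGF
    have himg : C.map π = (Cfsg.systemNormalizer K).map π := by
      rw [← systemNormalizer_map hK N]
      refine ih (G ⧸ N) hlt (F.map π)
        (Group.nilpotent_of_surjective (π.subgroupMap F) (π.subgroupMap_surjective F)) ?_ _
        (isComplementSystem_map hK N) _ (isCarter_map hC N)
        (by rw [systemNormalizer_map hK N]; exact map_mono hDC)
      refine Group.nilpotent_of_surjective
        (QuotientGroup.map F (F.map π) π (le_comap_map π F)) ?_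
      intro y
      obtain ⟨y, rfl⟩ := QuotientGroup.mk'_surjective (F.map π) y
      obtain ⟨x, rfl⟩ := hπ y
      exact ⟨QuotientGroup.mk' F x, rfl⟩
    have hCD : ∀ c ∈ C, ∃ u ∈ N ⊓ C, ∃ d ∈ Cfsg.systemNormalizer K, c = u * d := by
      intro c hc
      obtain ⟨d, hd, he⟩ := mem_map.mp (himg ▸ mem_map_of_mem π hc)
      refine ⟨c * d⁻¹, mem_inf.mpr ⟨(QuotientGroup.eq_one_iff _).mp ?_, mul_mem hc (inv_mem (hDC hd))⟩,
        d, hd, by group⟩
      show π (c * d⁻¹) = 1
      rw [map_mul, map_inv, he, mul_inv_cancel]
    refine le_antisymm (fun c hc => ?_) hDC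
    obtain ⟨u, hu, d, hd, rfl⟩ := hCD c hc
    refine mul_mem ?_ hd
    by_cases hcen : N ≤ center G
    · exact center_le_systemNormalizer (hcen hu.1)
    have hFN : F ≤ centralizer (N : Set G) :=
      (CfsgLib.Solvable.le_fittingSubgroup inferInstance hF).trans
        (Cfsg.Agent.S0583.result N hNne hmin)
    have hFC : ∀ g : G, ∃ f ∈ F, ∃ c ∈ C, g = f * c := by
      intro g
      have h1 := CfsgLib.Solvable.eq_top_of_normalizer_eq_self (isCarter_map hC F).2
      obtain ⟨c, hc, he⟩ := mem_map.mp (h1.symm ▸ mem_top (QuotientGroup.mk' F g) :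
        QuotientGroup.mk' F g ∈ C.map (QuotientGroup.mk' F))
      refine ⟨g * c⁻¹, (QuotientGroup.eq_one_iff _).mp ?_, c, hc, by group⟩
      show QuotientGroup.mk' F (g * c⁻¹) = 1
      rw [map_mul, map_inv, he, mul_inv_cancel]
    have hNCn : (N ⊓ C).Normal := by
      refine ⟨fun y hy g => ?_⟩
      obtain ⟨f, hf, c, hc, rfl⟩ := hFC g
      have h1 : c * y * c⁻¹ ∈ N ⊓ C :=
        mem_inf.mpr ⟨hN.conj_mem y hy.1 c, mul_mem (mul_mem hc hy.2) (inv_mem hc)⟩
      have h2 : f * (c * y * c⁻¹) = c * y * c⁻¹ * f :=
        (mem_centralizer_iff.mp (hFN hf) _ h1.1).symm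
      have h3 : f * c * y * (f * c)⁻¹ = f * (c * y * c⁻¹) * f⁻¹ := by group
      rw [h3, h2, mul_inv_cancel_right]
      exact h1
    rcases hmin _ hNCn inf_le_left with h | h
    · rw [h, Subgroup.mem_bot] at hu
      rw [hu]
      exact one_mem _
    · exfalso
      have hNC : N ≤ C := inf_eq_left.mp h
      haveI := hC.1
      have hne : N.subgroupOf C ≠ ⊥ := by
        rw [Ne, subgroupOf_eq_bot, disjoint_iff, inf_eq_left.mpr hNC]
        exact hNne
      obtain ⟨z, hz, hz1⟩ : ∃ z ∈ N.subgroupOf C ⊓ center C, z ≠ 1 := by
        obtain ⟨z, hz⟩ := ne_bot_iff_exists_ne_one.mp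
          (CfsgLib.Transfer.inf_center_ne_bot hne)
        exact ⟨z, z.2, fun e => hz (Subtype.ext e)⟩
      apply hz1
      have hzc : (z : G) ∈ center G := by
        rw [mem_center_iff]
        intro g
        obtain ⟨f, hf, c, hc, rfl⟩ := hFC g
        have e1 : (z : G) * f = f * z := mem_centralizer_iff.mp (hFN hf) _ hz.1
        have e2 : c * (z : G) = z * c := congrArg Subtype.val (mem_center_iff.mp hz.2 ⟨c, hc⟩)
        rw [mul_assoc, e2, ← mul_assoc, ← e1, mul_assoc]
      rcases hmin (N ⊓ center G) inferInstance inf_le_left with h' | h'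
      · have : (z : G) ∈ N ⊓ center G := mem_inf.mpr ⟨hz.1, hzc⟩
        rw [h', Subgroup.mem_bot] at this
        exact Subtype.ext this
      · exact absurd (inf_eq_left.mp h') hcen

/-- Complement systems exist. -/
theorem exists_system [Group.IsSolvable G] :
    ∃ K : Nat.Primes → Subgroup G, Cfsg.IsComplementSystem K := by
  have hex : ∀ r : Nat.Primes, ∃ H : Subgroup G,
      H.index = (r : ℕ) ^ (Nat.card G).factorization r := by
    intro r
    obtain ⟨H, hH⟩ := CfsgLib.Solvable.exists_isPiHall (G := G) {q | q ≠ (r : ℕ)}
    refine ⟨H, ?_⟩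
    have hcop : (Nat.card H).Coprime r := by
      rw [Nat.coprime_comm, r.2.coprime_iff_not_dvd]
      exact fun h => hH.1 r r.2 h rfl
    have hidx : ∀ q, q.Prime → q ∣ H.index → q = r := fun q hq hqd => by
      by_contra hne
      exact hH.2 q hq hne hqd
    have h1 := Nat.eq_prime_pow_of_unique_prime_dvd (p := (r : ℕ))
      (index_ne_zero_of_finite (H := H)) fun {q} hq hqd => hidx q hq hqd
    rw [h1]
    congr 1
    have hc := congrArg (fun m => Nat.factorization m (r : ℕ)) H.card_mul_index
    rw [h1, Nat.factorization_mul Nat.card_pos.ne' (pow_pos r.2.pos _).ne',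
      r.2.factorization_pow] at hc
    simp only [Finsupp.add_apply, Finsupp.single_eq_same,
      Nat.factorization_eq_zero_of_not_dvd (r.2.coprime_iff_not_dvd.mp hcop.symm), zero_add] at hc
    exact hc
  choose K hK using hex
  exact ⟨K, hK⟩

end CfsgLib.HallSystem
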